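import Cfsg.Agent.InvolFour.RankCert
import Cfsg.Prelude.Def_ChevStructure
import Cfsg.Prelude.Def_ChevF4

/-!
# Two ranks separating the four involution classes of F4 in characteristic two (owner: helper52)
-/

set_option autoImplicit false

namespace Cfsg.Agent.InvolFour.F4

open Cfsg.Lie

/-- The numbering of the coordinates. -/
def coordEquiv : Fin 52 ≃ chevF4.Idx := (finSumFinEquiv (m := 4) (n := 48)).symm

/-- The coordinates in order. -/
def coord : Fin 52 → chevF4.Idx := coordEquiv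

/-- The coordinates of the short root ideal. -/
def idealList : List ℕ :=
  [0, 1, 7, 11, 12, 13, 14, 15, 16, 17, 18, 22, 23, 24, 31, 32, 33, 37, 38, 39, 40, 41, 42, 43, 44, 48]

/-- Its inclusion. -/
def idealCol : Fin 26 → Fin 52 := fun j => Fin.ofNat 52 (idealList.getD j.val 0)

/-- The rows of `x_47(1) - 1` modulo two. -/
def longN : List ℕ := [16, 0, 16, 0, 0, 0, 0, 0, 0, 0, 0, 0, 0, 0, 0, 0, 0, 0, 0, 0, 0, 0, 0, 0, 0, 0, 0, 0, 32, 0, 64, 0, 0, 128, 0, 256, 512, 0, 0, 0, 2048, 0, 4096, 8192, 32768, 0, 524288, 1048576, 4194304, 33554432, 134217728, 24]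

/-- The rows of `x_44(1) - 1` modulo two. -/
def shortN : List ℕ := [0, 128, 0, 0, 0, 0, 0, 0, 0, 0, 0, 0, 0, 0, 0, 0, 0, 0, 0, 0, 0, 0, 16, 32, 64, 0, 0, 0, 0, 0, 0, 256, 512, 1024, 0, 0, 0, 2048, 4096, 8192, 16384, 32768, 65536, 131072, 262144, 16, 32, 64, 129, 256, 512, 1024]

/-- The rows of `x_39(1) - 1` modulo two. -/
def midShortN : List ℕ := [4096, 0, 0, 0, 0, 0, 0, 0, 0, 0, 0, 0, 0, 16, 32, 0, 0, 128, 256, 0, 0, 0, 0, 0, 2048, 0, 0, 0, 0, 16, 32, 0, 32768, 65536, 0, 0, 256, 524288, 0, 4194304, 8388608, 33554432, 67108864, 4102, 2147483648, 0, 0, 524288, 274877906944, 0, 33554432, 67108864]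

/-- The rows of `x_45(1) - 1` modulo two. -/
def midLongN : List ℕ := [64, 0, 0, 64, 0, 0, 0, 0, 0, 0, 0, 0, 0, 0, 0, 0, 0, 0, 0, 0, 0, 0, 0, 0, 0, 16, 32, 0, 0, 0, 0, 128, 0, 0, 512, 1024, 0, 0, 2048, 0, 0, 8192, 16384, 0, 131072, 1048576, 2097152, 0, 16777216, 68, 536870912, 1073741824]

/-- The rows of a product minus one. -/
def cN : List ℕ := [16, 128, 16, 0, 0, 0, 0, 0, 0, 0, 0, 0, 0, 0, 0, 0, 0, 0, 0, 0, 0, 0, 16, 32, 64, 0, 0, 0, 32, 0, 64, 256, 512, 1152, 0, 256, 512, 2048, 4096, 8192, 18432, 32768, 69632, 139264, 294912, 16, 524320, 1048640, 4194449, 33554688, 134218240, 1048]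

/-- The rows of a product minus one. -/
def dN : List ℕ := [4160, 0, 0, 64, 0, 0, 0, 0, 0, 0, 0, 0, 0, 16, 32, 0, 0, 128, 256, 0, 0, 0, 0, 0, 2048, 16, 32, 0, 0, 16, 32, 128, 32768, 65536, 512, 1024, 256, 524288, 2048, 4194304, 8388608, 33562640, 67125280, 4102, 2147614848, 1048576, 2097152, 524288, 274894686208, 68, 570425360, 1140850720]

/-- A rank certificate. -/
def aFCert : RankCert := ⟨16, [0, 28, 30, 33, 35, 36, 40, 42, 43, 44, 46, 47, 48, 49, 50, 51], [3, 4, 5, 6, 7, 8, 9, 11, 12, 13, 15, 19, 20, 22, 25, 27], [32769, 1, 2, 4, 8, 16, 32, 64, 128, 256, 512, 1024, 2048, 4096, 8192, 16384], [1, 0, 1, 0, 0, 0, 0, 0, 0, 0, 0, 0, 0, 0, 0, 0, 0, 0, 0, 0, 0, 0, 0, 0, 0, 0, 0, 0, 2, 0, 4, 0, 0, 8, 0, 16, 32, 0, 0, 0, 64, 0, 128, 256, 512, 0, 1024, 2048, 4096, 8192, 16384, 32768], [16, 32, 64, 128, 256, 512, 2048, 4096, 8192, 32768, 524288, 1048576, 4194304, 33554432, 134217728, 24]⟩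

/-- A rank certificate. -/
def bFCert : RankCert := ⟨16, [1, 22, 23, 24, 31, 32, 33, 37, 38, 39, 40, 41, 42, 43, 44, 48], [0, 4, 5, 6, 7, 8, 9, 10, 11, 12, 13, 14, 15, 16, 17, 18], [32769, 2, 4, 8, 1, 16, 32, 64, 128, 256, 512, 1024, 2048, 4096, 8192, 16384], [0, 1, 0, 0, 0, 0, 0, 0, 0, 0, 0, 0, 0, 0, 0, 0, 0, 0, 0, 0, 0, 0, 2, 4, 8, 0, 0, 0, 0, 0, 0, 16, 32, 64, 0, 0, 0, 128, 256, 512, 1024, 2048, 4096, 8192, 16384, 2, 4, 8, 32768, 16, 32, 64], [128, 16, 32, 64, 256, 512, 1024, 2048, 4096, 8192, 16384, 32768, 65536, 131072, 262144, 129]⟩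

/-- A rank certificate. -/
def cFCert : RankCert := ⟨21, [0, 1, 23, 24, 31, 32, 33, 37, 38, 39, 40, 41, 42, 43, 44, 46, 47, 48, 49, 50, 51], [0, 3, 4, 5, 6, 7, 8, 9, 10, 11, 12, 13, 14, 15, 16, 17, 18, 19, 20, 25, 27], [131075, 1048643, 1, 4, 8, 2, 16, 32, 66, 128, 256, 512, 1152, 2048, 4352, 8704, 18432, 32772, 65544, 262160, 524320], [1, 2, 1, 0, 0, 0, 0, 0, 0, 0, 0, 0, 0, 0, 0, 0, 0, 0, 0, 0, 0, 0, 1, 4, 8, 0, 0, 0, 4, 0, 8, 16, 32, 64, 0, 16, 32, 128, 256, 512, 1024, 2048, 4096, 8192, 16384, 1, 32768, 65536, 131072, 262144, 524288, 1048576], [16, 128, 32, 64, 256, 512, 1152, 2048, 4096, 8192, 18432, 32768, 69632, 139264, 294912, 524320, 1048640, 4194449, 33554688, 134218240, 1048]⟩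

/-- A rank certificate. -/
def dFCert : RankCert := ⟨24, [0, 3, 13, 14, 17, 18, 24, 32, 33, 34, 35, 37, 39, 40, 41, 42, 43, 44, 45, 46, 48, 49, 50, 51], [1, 2, 4, 5, 6, 7, 8, 9, 10, 11, 12, 13, 14, 15, 16, 17, 19, 20, 21, 22, 23, 24, 25, 26], [2162689, 2097154, 4, 8, 2, 16, 32, 512, 1024, 64, 3, 4210688, 8421376, 128, 256, 131088, 2048, 262144, 524288, 4096, 8192, 1048640, 4194308, 8388616], [1, 0, 0, 2, 0, 0, 0, 0, 0, 0, 0, 0, 0, 4, 8, 0, 0, 16, 32, 0, 0, 0, 0, 0, 64, 4, 8, 0, 0, 4, 8, 16, 128, 256, 512, 1024, 32, 2048, 64, 4096, 8192, 16384, 32768, 65536, 131072, 262144, 524288, 2048, 1048576, 2097152, 4194304, 8388608], [4160, 64, 16, 32, 128, 256, 2048, 32768, 65536, 512, 1024, 524288, 4194304, 8388608, 33562640, 67125280, 4102, 2147614848, 1048576, 2097152, 274894686208, 68, 570425360, 1140850720]⟩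

/-- A rank certificate. -/
def aICert : RankCert := ⟨6, [33, 40, 42, 43, 44, 48], [2, 3, 4, 5, 7, 11], [1, 2, 4, 8, 16, 32], [0, 0, 0, 0, 0, 0, 0, 0, 0, 0, 0, 0, 0, 0, 0, 0, 0, 0, 0, 0, 0, 0, 0, 0, 0, 0, 0, 0, 0, 0, 0, 0, 0, 1, 0, 0, 0, 0, 0, 0, 2, 0, 4, 8, 16, 0, 0, 0, 32, 0, 0, 0], [4, 8, 16, 32, 128, 2048]⟩

/-- A rank certificate. -/
def bICert : RankCert := ⟨10, [1, 37, 38, 39, 40, 41, 42, 43, 44, 48], [0, 2, 3, 4, 5, 6, 7, 8, 9, 10], [513, 1, 2, 4, 8, 16, 32, 64, 128, 256], [0, 1, 0, 0, 0, 0, 0, 0, 0, 0, 0, 0, 0, 0, 0, 0, 0, 0, 0, 0, 0, 0, 0, 0, 0, 0, 0, 0, 0, 0, 0, 0, 0, 0, 0, 0, 0, 2, 4, 8, 16, 32, 64, 128, 256, 0, 0, 0, 512, 0, 0, 0], [4, 8, 16, 32, 64, 128, 256, 512, 1024, 5]⟩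

set_option maxHeartbeats 0 in
set_option maxRecDepth 100000 in
theorem long_entries : (chevF4.x (ZMod 2) 47 1 - 1).submatrix coord coord = bm longN 52 52 := by
  decide +kernel

set_option maxHeartbeats 0 in
set_option maxRecDepth 100000 in
theorem short_entries : (chevF4.x (ZMod 2) 44 1 - 1).submatrix coord coord = bm shortN 52 52 := by
  decide +kernel

set_option maxHeartbeats 0 in
set_option maxRecDepth 100000 in
theorem midShort_entries : (chevF4.x (ZMod 2) 39 1 - 1).submatrix coord coord = bm midShortN 52 52 := by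
  decide +kernel

set_option maxHeartbeats 0 in
set_option maxRecDepth 100000 in
theorem midLong_entries : (chevF4.x (ZMod 2) 45 1 - 1).submatrix coord coord = bm midLongN 52 52 := by
  decide +kernel

set_option maxHeartbeats 0 in
set_option maxRecDepth 100000 in
theorem c_entries : bm longN 52 52 * bm shortN 52 52 + bm longN 52 52 + bm shortN 52 52 = bm cN 52 52 := by
  decide +kernel

set_option maxHeartbeats 0 in
set_option maxRecDepth 100000 in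
theorem d_entries :
    bm midShortN 52 52 * bm midLongN 52 52 + bm midShortN 52 52 + bm midLongN 52 52 = bm dN 52 52 := by
  decide +kernel

set_option maxHeartbeats 0 in
set_option maxRecDepth 100000 in
theorem ranks : aFCert.OK (bm longN 52 52) ∧ bFCert.OK (bm shortN 52 52) ∧ cFCert.OK (bm cN 52 52) ∧
    dFCert.OK (bm dN 52 52) ∧ aICert.OK ((bm longN 52 52).submatrix id idealCol) ∧
    bICert.OK ((bm shortN 52 52).submatrix id idealCol) := by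
  decide +kernel

end Cfsg.Agent.InvolFour.F4
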