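import Cfsg.Agent.InvolFour.Reduce
import Cfsg.Prelude.Def_ChevF4

/-!
# The reduction table for involutions of F4 in characteristic two (owner: helper52; generated)
-/

set_option autoImplicit false

namespace Cfsg.Agent.InvolFour.F4

open Cfsg.Lie

/-- A node of the reduction. -/
def node0 : Node 4 where
  A := []
  psi := [24, 25, 27, 33, 26, 28, 34, 29, 30, 35, 31, 36, 37, 32, 38, 41, 39, 42, 40, 43, 44, 45, 46, 47]
  chain := [[26, 28, 34, 29, 30, 35, 31, 36, 37, 32, 38, 41, 39, 42, 40, 43, 44, 45, 46, 47], [29, 30, 35, 31, 36, 37, 32, 38, 41, 39, 42, 40, 43, 44, 45, 46, 47], [31, 36, 37, 32, 38, 41, 39, 42, 40, 43, 44, 45, 46, 47], [32, 38, 41, 39, 42, 40, 43, 44, 45, 46, 47], [39, 42, 40, 43, 44, 45, 46, 47], [40, 43, 44, 45, 46, 47], [44, 45, 46, 47], [45, 46, 47], [46, 47], [47], []]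
  refls := [⟨26, [3]⟩, ⟨28, [2]⟩, ⟨34, [1]⟩, ⟨29, [3]⟩, ⟨30, [1]⟩, ⟨35, [2]⟩, ⟨31, [3]⟩, ⟨36, [3]⟩, ⟨37, [1]⟩, ⟨32, [2]⟩, ⟨38, [3]⟩, ⟨41, [0]⟩, ⟨39, [2]⟩, ⟨42, [3]⟩, ⟨40, [1]⟩, ⟨43, [2]⟩, ⟨44, [0]⟩, ⟨45, [1]⟩, ⟨46, [2]⟩, ⟨47, [3]⟩]
  strips := [⟨24, [25, 27, 33, 26, 28, 34, 29, 30, 35, 31, 36, 37, 32, 38, 41, 39, 42, 40, 43, 44, 45, 46, 47], [⟨[(25, 26)], [27, 33, 34, 32, 39, 40, 43, 44, 45, 28, 29, 30, 35, 31, 36, 37, 38, 41, 42, 46, 47]⟩, ⟨[(28, 29)], [27, 33, 34, 32, 39, 40, 43, 44, 45, 30, 35, 31, 36, 37, 38, 41, 42, 46, 47]⟩, ⟨[(30, 31), (35, 36)], [27, 33, 34, 32, 39, 40, 43, 44, 45, 37, 38, 41, 42, 46, 47]⟩, ⟨[(37, 38)], [27, 33, 34, 32, 39, 40, 43, 44, 45, 41, 42, 46, 47]⟩, ⟨[(41, 42)], [27, 33, 34, 32, 39, 40, 43, 44, 45, 46, 47]⟩, ⟨[(46, 47)], [27, 33, 34, 32, 39, 40, 43, 44, 45]⟩], [27, 33, 34, 32, 39, 40, 43, 44, 45]⟩,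
    ⟨25, [24, 27, 33, 26, 28, 34, 29, 30, 35, 31, 36, 37, 32, 38, 41, 39, 42, 40, 43, 44, 45, 46, 47], [⟨[(24, 26), (27, 28)], [33, 29, 30, 36, 37, 41, 40, 44, 47, 34, 35, 31, 32, 38, 39, 42, 43, 45, 46]⟩, ⟨[(34, 35)], [33, 29, 30, 36, 37, 41, 40, 44, 47, 31, 32, 38, 39, 42, 43, 45, 46]⟩, ⟨[(31, 32)], [33, 29, 30, 36, 37, 41, 40, 44, 47, 38, 39, 42, 43, 45, 46]⟩, ⟨[(38, 39)], [33, 29, 30, 36, 37, 41, 40, 44, 47, 42, 43, 45, 46]⟩, ⟨[(42, 43)], [33, 29, 30, 36, 37, 41, 40, 44, 47, 45, 46]⟩, ⟨[(45, 46)], [33, 29, 30, 36, 37, 41, 40, 44, 47]⟩], [33, 29, 30, 36, 37, 41, 40, 44, 47]⟩,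
    ⟨27, [24, 25, 33, 26, 28, 34, 29, 30, 35, 31, 36, 37, 32, 38, 41, 39, 42, 40, 43, 44, 45, 46, 47], [⟨[(33, 34)], [24, 28, 29, 32, 41, 42, 44, 46, 47, 25, 26, 30, 35, 31, 36, 37, 38, 39, 40, 43, 45]⟩, ⟨[(25, 30)], [24, 28, 29, 32, 41, 42, 44, 46, 47, 26, 35, 31, 36, 37, 38, 39, 40, 43, 45]⟩, ⟨[(26, 31)], [24, 28, 29, 32, 41, 42, 44, 46, 47, 35, 36, 37, 38, 39, 40, 43, 45]⟩, ⟨[(35, 37)], [24, 28, 29, 32, 41, 42, 44, 46, 47, 36, 38, 39, 40, 43, 45]⟩, ⟨[(36, 38)], [24, 28, 29, 32, 41, 42, 44, 46, 47, 39, 40, 43, 45]⟩, ⟨[(39, 40)], [24, 28, 29, 32, 41, 42, 44, 46, 47, 43, 45]⟩, ⟨[(43, 45)], [24, 28, 29, 32, 41, 42, 44, 46, 47]⟩], [24, 28, 29, 32, 41, 42, 44, 46, 47]⟩,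
    ⟨33, [24, 25, 27, 26, 28, 34, 29, 30, 35, 31, 36, 37, 32, 38, 41, 39, 42, 40, 43, 44, 45, 46, 47], [⟨[(27, 34)], [24, 25, 26, 37, 38, 39, 45, 46, 47, 28, 29, 30, 35, 31, 36, 32, 41, 42, 40, 43, 44]⟩, ⟨[(28, 35)], [24, 25, 26, 37, 38, 39, 45, 46, 47, 29, 30, 31, 36, 32, 41, 42, 40, 43, 44]⟩, ⟨[(29, 36)], [24, 25, 26, 37, 38, 39, 45, 46, 47, 30, 31, 32, 41, 42, 40, 43, 44]⟩, ⟨[(30, 41)], [24, 25, 26, 37, 38, 39, 45, 46, 47, 31, 32, 42, 40, 43, 44]⟩, ⟨[(31, 42)], [24, 25, 26, 37, 38, 39, 45, 46, 47, 32, 40, 43, 44]⟩, ⟨[(32, 43)], [24, 25, 26, 37, 38, 39, 45, 46, 47, 40, 44]⟩, ⟨[(40, 44)], [24, 25, 26, 37, 38, 39, 45, 46, 47]⟩], [24, 25, 26, 37, 38, 39, 45, 46, 47]⟩]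
  moves := []

/-- A node of the reduction. -/
def node1 : Node 4 where
  A := [24]
  psi := [27, 33, 34, 32, 39, 40, 43, 44, 45]
  chain := [[34, 32, 39, 40, 43, 44, 45], [32, 39, 40, 43, 44, 45], [39, 40, 43, 44, 45], [40, 43, 44, 45], [44, 45], [45], []]
  refls := [⟨34, [1]⟩, ⟨39, [2, 3, 1, 2, 1, 3, 2]⟩, ⟨40, [1]⟩, ⟨43, [0]⟩, ⟨44, [0]⟩, ⟨45, [1]⟩]
  strips := [⟨27, [33, 34, 32, 39, 40, 43, 44, 45], [⟨[(33, 34)], [32, 44, 39, 40, 43, 45]⟩, ⟨[(39, 40)], [32, 44, 43, 45]⟩, ⟨[(43, 45)], [32, 44]⟩], [32, 44]⟩,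
    ⟨33, [27, 34, 32, 39, 40, 43, 44, 45], [⟨[(27, 34)], [39, 45, 32, 40, 43, 44]⟩, ⟨[(32, 43)], [39, 45, 40, 44]⟩, ⟨[(40, 44)], [39, 45]⟩], [39, 45]⟩,
    ⟨32, [27, 33, 34, 39, 40, 43, 44, 45], [⟨[(33, 39)], [27, 43, 44, 45, 34, 40]⟩, ⟨[(34, 40)], [27, 43, 44, 45]⟩], [27, 43, 44, 45]⟩]
  moves := [.weyl [3, 2, 1, 2, 0, 1, 2]]

/-- A node of the reduction. -/
def node2 : Node 4 where
  A := [24, 27]
  psi := [32, 44]
  chain := [[44], []]
  refls := []
  strips := [⟨32, [44], [], [44]⟩,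
    ⟨44, [32], [], [32]⟩]
  moves := [.weyl [2, 1, 2, 3, 1, 2, 0, 1, 2, 0]]

/-- A node of the reduction. -/
def node3 : Node 4 where
  A := [24, 27, 32]
  psi := [44]
  chain := [[]]
  refls := []
  strips := [⟨44, [], [], []⟩]
  moves := [.weyl [], .conj 19, .conj 22, .conj 26, .weyl [2, 1, 2, 3, 2, 1, 2, 1, 0]]

/-- A node of the reduction. -/
def node4 : Node 4 where
  A := [24, 27, 32, 44]
  psi := []
  chain := []
  refls := []
  strips := []
  moves := [.weyl [], .conj 4, .conj 12, .conj 37, .conj 6, .conj 19, .conj 42, .weyl [1, 0]]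

/-- A node of the reduction. -/
def node5 : Node 4 where
  A := [24, 27, 44]
  psi := [32]
  chain := [[]]
  refls := []
  strips := [⟨32, [], [], []⟩]
  moves := [.weyl [], .conj 4, .conj 12, .conj 37, .weyl [1, 2, 0, 1, 2]]

/-- A node of the reduction. -/
def node6 : Node 4 where
  A := [24, 27, 44, 32]
  psi := []
  chain := []
  refls := []
  strips := []
  moves := [.weyl [], .conj 4, .conj 12, .conj 37, .conj 6, .conj 19, .conj 42, .weyl [1, 0]]

/-- A node of the reduction. -/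
def node7 : Node 4 where
  A := [24, 33]
  psi := [39, 45]
  chain := [[45], []]
  refls := []
  strips := [⟨39, [45], [], [45]⟩,
    ⟨45, [39], [], [39]⟩]
  moves := [.weyl [2, 1, 2, 3, 1, 2, 0, 1, 2, 1]]

/-- A node of the reduction. -/
def node8 : Node 4 where
  A := [24, 33, 39]
  psi := [45]
  chain := [[]]
  refls := []
  strips := [⟨45, [], [], []⟩]
  moves := [.weyl [0, 1], .conj 4, .conj 12, .conj 37, .weyl [1, 2, 0, 1, 2]]

/-- A node of the reduction. -/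
def node9 : Node 4 where
  A := [24, 33, 39, 45]
  psi := []
  chain := []
  refls := []
  strips := []
  moves := [.weyl [0, 1], .conj 4, .conj 12, .conj 37, .conj 6, .conj 19, .conj 42, .weyl [1, 0]]

/-- A node of the reduction. -/
def node10 : Node 4 where
  A := [24, 33, 45]
  psi := [39]
  chain := [[]]
  refls := []
  strips := [⟨39, [], [], []⟩]
  moves := [.weyl [0, 1], .conj 19, .conj 22, .conj 26, .weyl [2, 1, 2, 3, 2, 1, 2, 1, 0]]

/-- A node of the reduction. -/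
def node11 : Node 4 where
  A := [24, 33, 45, 39]
  psi := []
  chain := []
  refls := []
  strips := []
  moves := [.weyl [0, 1], .conj 4, .conj 12, .conj 37, .conj 6, .conj 19, .conj 42, .weyl [1, 0]]

/-- A node of the reduction. -/
def node12 : Node 4 where
  A := [24, 32]
  psi := [27, 43, 44, 45]
  chain := [[43, 44, 45], [44, 45], [45], []]
  refls := [⟨44, [2, 3, 0, 1, 2, 1, 0, 3, 2]⟩, ⟨45, [1]⟩]
  strips := [⟨27, [43, 44, 45], [⟨[(43, 45)], [44]⟩], [44]⟩,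
    ⟨43, [27, 44, 45], [⟨[(27, 44)], [45]⟩], [45]⟩]
  moves := [.weyl [], .conj 19, .weyl [3, 0, 1, 2, 1, 0]]

/-- A node of the reduction. -/
def node13 : Node 4 where
  A := [24, 32, 27]
  psi := [44]
  chain := [[]]
  refls := []
  strips := [⟨44, [], [], []⟩]
  moves := [.weyl [], .conj 19, .conj 22, .conj 26, .weyl [2, 1, 2, 3, 2, 1, 2, 1, 0]]

/-- A node of the reduction. -/
def node14 : Node 4 where
  A := [24, 32, 27, 44]
  psi := []
  chain := []
  refls := []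
  strips := []
  moves := [.weyl [], .conj 4, .conj 12, .conj 37, .conj 6, .conj 19, .conj 42, .weyl [1, 0]]

/-- A node of the reduction. -/
def node15 : Node 4 where
  A := [24, 32, 43]
  psi := [45]
  chain := [[]]
  refls := []
  strips := [⟨45, [], [], []⟩]
  moves := [.weyl [], .conj 12, .conj 28, .conj 33, .weyl [2, 1, 2, 0, 1, 0]]

/-- A node of the reduction. -/
def node16 : Node 4 where
  A := [24, 32, 43, 45]
  psi := []
  chain := []
  refls := []
  strips := []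
  moves := [.weyl [], .conj 10, .conj 26, .conj 27, .conj 25, .conj 33, .conj 12, .weyl [1, 0]]

/-- A node of the reduction. -/
def node17 : Node 4 where
  A := [25]
  psi := [33, 29, 30, 36, 37, 41, 40, 44, 47]
  chain := [[29, 30, 36, 37, 41, 40, 44, 47], [36, 37, 41, 40, 44, 47], [41, 40, 44, 47], [40, 44, 47], [44, 47], [47], []]
  refls := [⟨36, [0]⟩, ⟨37, [1, 2, 1]⟩, ⟨41, [0]⟩, ⟨40, [3, 2, 1, 2, 3]⟩, ⟨44, [0]⟩, ⟨47, [3, 2, 1, 2, 3]⟩]
  strips := [⟨33, [29, 30, 36, 37, 41, 40, 44, 47], [⟨[(29, 36)], [37, 47, 30, 41, 40, 44]⟩, ⟨[(30, 41)], [37, 47, 40, 44]⟩, ⟨[(40, 44)], [37, 47]⟩], [37, 47]⟩,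
    ⟨29, [33, 30, 36, 37, 41, 40, 44, 47], [⟨[(33, 36)], [30, 44, 37, 41, 40, 47]⟩, ⟨[(37, 40)], [30, 44, 41, 47]⟩, ⟨[(41, 47)], [30, 44]⟩], [30, 44]⟩,
    ⟨30, [33, 29, 36, 37, 41, 40, 44, 47], [⟨[(33, 37)], [29, 41, 44, 47, 36, 40]⟩, ⟨[(36, 40)], [29, 41, 44, 47]⟩], [29, 41, 44, 47]⟩]
  moves := [.weyl [3, 2, 1, 2, 3, 0, 1]]

/-- A node of the reduction. -/
def node18 : Node 4 where
  A := [25, 33]
  psi := [37, 47]
  chain := [[47], []]
  refls := []
  strips := [⟨37, [47], [], [47]⟩,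
    ⟨47, [37], [], [37]⟩]
  moves := [.weyl [2, 1, 2, 0, 1, 2, 3, 2, 0, 1]]

/-- A node of the reduction. -/
def node19 : Node 4 where
  A := [25, 33, 37]
  psi := [47]
  chain := [[]]
  refls := []
  strips := [⟨47, [], [], []⟩]
  moves := [.weyl [0, 1, 2, 3], .conj 4, .conj 12, .conj 37, .weyl [1, 2, 0, 1, 2]]

/-- A node of the reduction. -/
def node20 : Node 4 where
  A := [25, 33, 37, 47]
  psi := []
  chain := []
  refls := []
  strips := []
  moves := [.weyl [0, 1, 2, 3], .conj 4, .conj 12, .conj 37, .conj 6, .conj 19, .conj 42, .weyl [1, 0]]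

/-- A node of the reduction. -/
def node21 : Node 4 where
  A := [25, 33, 47]
  psi := [37]
  chain := [[]]
  refls := []
  strips := [⟨37, [], [], []⟩]
  moves := [.weyl [0, 1, 2, 3], .conj 19, .conj 22, .conj 26, .weyl [2, 1, 2, 3, 2, 1, 2, 1, 0]]

/-- A node of the reduction. -/
def node22 : Node 4 where
  A := [25, 33, 47, 37]
  psi := []
  chain := []
  refls := []
  strips := []
  moves := [.weyl [0, 1, 2, 3], .conj 4, .conj 12, .conj 37, .conj 6, .conj 19, .conj 42, .weyl [1, 0]]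

/-- A node of the reduction. -/
def node23 : Node 4 where
  A := [25, 29]
  psi := [30, 44]
  chain := [[44], []]
  refls := []
  strips := [⟨30, [44], [], [44]⟩,
    ⟨44, [30], [], [30]⟩]
  moves := [.weyl [1, 2, 3, 1, 2, 0, 1, 0]]

/-- A node of the reduction. -/
def node24 : Node 4 where
  A := [25, 29, 30]
  psi := [44]
  chain := [[]]
  refls := []
  strips := [⟨44, [], [], []⟩]
  moves := [.weyl [2, 3], .conj 19, .conj 22, .conj 26, .weyl [2, 1, 2, 3, 2, 1, 2, 1, 0]]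

/-- A node of the reduction. -/
def node25 : Node 4 where
  A := [25, 29, 30, 44]
  psi := []
  chain := []
  refls := []
  strips := []
  moves := [.weyl [2, 3], .conj 4, .conj 12, .conj 37, .conj 6, .conj 19, .conj 42, .weyl [1, 0]]

/-- A node of the reduction. -/
def node26 : Node 4 where
  A := [25, 29, 44]
  psi := [30]
  chain := [[]]
  refls := []
  strips := [⟨30, [], [], []⟩]
  moves := [.weyl [2, 3], .conj 4, .conj 12, .conj 37, .weyl [1, 2, 0, 1, 2]]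

/-- A node of the reduction. -/
def node27 : Node 4 where
  A := [25, 29, 44, 30]
  psi := []
  chain := []
  refls := []
  strips := []
  moves := [.weyl [2, 3], .conj 4, .conj 12, .conj 37, .conj 6, .conj 19, .conj 42, .weyl [1, 0]]

/-- A node of the reduction. -/
def node28 : Node 4 where
  A := [25, 30]
  psi := [29, 41, 44, 47]
  chain := [[41, 44, 47], [44, 47], [47], []]
  refls := [⟨44, [0, 1, 2, 1, 0]⟩, ⟨47, [3, 2, 1, 2, 3]⟩]
  strips := [⟨29, [41, 44, 47], [⟨[(41, 47)], [44]⟩], [44]⟩,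
    ⟨41, [29, 44, 47], [⟨[(29, 44)], [47]⟩], [47]⟩]
  moves := [.weyl [2, 3], .conj 19, .weyl [3, 0, 1, 2, 1, 0]]

/-- A node of the reduction. -/
def node29 : Node 4 where
  A := [25, 30, 29]
  psi := [44]
  chain := [[]]
  refls := []
  strips := [⟨44, [], [], []⟩]
  moves := [.weyl [2, 3], .conj 19, .conj 22, .conj 26, .weyl [2, 1, 2, 3, 2, 1, 2, 1, 0]]

/-- A node of the reduction. -/
def node30 : Node 4 where
  A := [25, 30, 29, 44]
  psi := []
  chain := []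
  refls := []
  strips := []
  moves := [.weyl [2, 3], .conj 4, .conj 12, .conj 37, .conj 6, .conj 19, .conj 42, .weyl [1, 0]]

/-- A node of the reduction. -/
def node31 : Node 4 where
  A := [25, 30, 41]
  psi := [47]
  chain := [[]]
  refls := []
  strips := [⟨47, [], [], []⟩]
  moves := [.weyl [2, 3], .conj 12, .conj 28, .conj 33, .weyl [2, 1, 2, 0, 1, 0]]

/-- A node of the reduction. -/
def node32 : Node 4 where
  A := [25, 30, 41, 47]
  psi := []
  chain := []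
  refls := []
  strips := []
  moves := [.weyl [2, 3], .conj 10, .conj 26, .conj 27, .conj 25, .conj 33, .conj 12, .weyl [1, 0]]

/-- A node of the reduction. -/
def node33 : Node 4 where
  A := [27]
  psi := [24, 28, 29, 32, 41, 42, 44, 46, 47]
  chain := [[28, 29, 32, 41, 42, 44, 46, 47], [29, 32, 41, 42, 44, 46, 47], [32, 41, 42, 44, 46, 47], [42, 44, 46, 47], [44, 46, 47], [46, 47], [47], []]
  refls := [⟨29, [3]⟩, ⟨32, [2, 1, 2]⟩, ⟨42, [3]⟩, ⟨44, [0, 1, 2, 1, 0]⟩, ⟨46, [2, 1, 2]⟩, ⟨47, [3]⟩]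
  strips := [⟨24, [28, 29, 32, 41, 42, 44, 46, 47], [⟨[(28, 29)], [32, 44, 41, 42, 46, 47]⟩, ⟨[(41, 42)], [32, 44, 46, 47]⟩, ⟨[(46, 47)], [32, 44]⟩], [32, 44]⟩,
    ⟨28, [24, 29, 32, 41, 42, 44, 46, 47], [⟨[(24, 32)], [29, 41, 44, 47, 42, 46]⟩, ⟨[(42, 46)], [29, 41, 44, 47]⟩], [29, 41, 44, 47]⟩,
    ⟨41, [24, 28, 29, 32, 42, 44, 46, 47], [⟨[(24, 42)], [28, 47, 29, 32, 44, 46]⟩, ⟨[(29, 44)], [28, 47, 32, 46]⟩, ⟨[(32, 46)], [28, 47]⟩], [28, 47]⟩]
  moves := [.weyl [0, 1, 2, 3, 1, 2, 0]]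

/-- A node of the reduction. -/
def node34 : Node 4 where
  A := [27, 24]
  psi := [32, 44]
  chain := [[44], []]
  refls := []
  strips := [⟨32, [44], [], [44]⟩,
    ⟨44, [32], [], [32]⟩]
  moves := [.weyl [2, 1, 2, 3, 1, 2, 0, 1, 2, 0]]

/-- A node of the reduction. -/
def node35 : Node 4 where
  A := [27, 24, 32]
  psi := [44]
  chain := [[]]
  refls := []
  strips := [⟨44, [], [], []⟩]
  moves := [.weyl [], .conj 19, .conj 22, .conj 26, .weyl [2, 1, 2, 3, 2, 1, 2, 1, 0]]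

/-- A node of the reduction. -/
def node36 : Node 4 where
  A := [27, 24, 32, 44]
  psi := []
  chain := []
  refls := []
  strips := []
  moves := [.weyl [], .conj 4, .conj 12, .conj 37, .conj 6, .conj 19, .conj 42, .weyl [1, 0]]

/-- A node of the reduction. -/
def node37 : Node 4 where
  A := [27, 24, 44]
  psi := [32]
  chain := [[]]
  refls := []
  strips := [⟨32, [], [], []⟩]
  moves := [.weyl [], .conj 4, .conj 12, .conj 37, .weyl [1, 2, 0, 1, 2]]

/-- A node of the reduction. -/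
def node38 : Node 4 where
  A := [27, 24, 44, 32]
  psi := []
  chain := []
  refls := []
  strips := []
  moves := [.weyl [], .conj 4, .conj 12, .conj 37, .conj 6, .conj 19, .conj 42, .weyl [1, 0]]

/-- A node of the reduction. -/
def node39 : Node 4 where
  A := [27, 28]
  psi := [29, 41, 44, 47]
  chain := [[41, 44, 47], [44, 47], [47], []]
  refls := [⟨44, [0, 1, 2, 1, 0]⟩, ⟨47, [3, 2, 1, 2, 3]⟩]
  strips := [⟨29, [41, 44, 47], [⟨[(41, 47)], [44]⟩], [44]⟩,
    ⟨41, [29, 44, 47], [⟨[(29, 44)], [47]⟩], [47]⟩]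
  moves := [.weyl [], .conj 22, .weyl [3, 2, 0, 1, 2, 3, 1, 0]]

/-- A node of the reduction. -/
def node40 : Node 4 where
  A := [27, 28, 29]
  psi := [44]
  chain := [[]]
  refls := []
  strips := [⟨44, [], [], []⟩]
  moves := [.weyl [], .conj 21, .conj 24, .conj 25, .weyl [2, 1, 2, 3, 1, 2, 1, 0]]

/-- A node of the reduction. -/
def node41 : Node 4 where
  A := [27, 28, 29, 44]
  psi := []
  chain := []
  refls := []
  strips := []
  moves := [.weyl [], .conj 4, .conj 14, .conj 41, .conj 13, .conj 24, .conj 21, .weyl [2, 3, 1, 0]]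

/-- A node of the reduction. -/
def node42 : Node 4 where
  A := [27, 28, 41]
  psi := [47]
  chain := [[]]
  refls := []
  strips := [⟨47, [], [], []⟩]
  moves := [.weyl [0, 1, 2, 3, 1, 0], .conj 4, .conj 12, .conj 37, .weyl [1, 2, 0, 1, 2]]

/-- A node of the reduction. -/
def node43 : Node 4 where
  A := [27, 28, 41, 47]
  psi := []
  chain := []
  refls := []
  strips := []
  moves := [.weyl [0, 1, 2, 3, 1, 0], .conj 4, .conj 12, .conj 37, .conj 6, .conj 19, .conj 42, .weyl [1, 0]]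

/-- A node of the reduction. -/
def node44 : Node 4 where
  A := [27, 41]
  psi := [28, 47]
  chain := [[47], []]
  refls := []
  strips := [⟨28, [47], [], [47]⟩,
    ⟨47, [28], [], [28]⟩]
  moves := [.weyl [2, 1, 2, 0, 1, 2, 3, 2]]

/-- A node of the reduction. -/
def node45 : Node 4 where
  A := [27, 41, 28]
  psi := [47]
  chain := [[]]
  refls := []
  strips := [⟨47, [], [], []⟩]
  moves := [.weyl [0, 1, 2, 3, 1, 0], .conj 4, .conj 12, .conj 37, .weyl [1, 2, 0, 1, 2]]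

/-- A node of the reduction. -/
def node46 : Node 4 where
  A := [27, 41, 28, 47]
  psi := []
  chain := []
  refls := []
  strips := []
  moves := [.weyl [0, 1, 2, 3, 1, 0], .conj 4, .conj 12, .conj 37, .conj 6, .conj 19, .conj 42, .weyl [1, 0]]

/-- A node of the reduction. -/
def node47 : Node 4 where
  A := [27, 41, 47]
  psi := [28]
  chain := [[]]
  refls := []
  strips := [⟨28, [], [], []⟩]
  moves := [.weyl [0, 1, 2, 3, 1, 0], .conj 19, .conj 22, .conj 26, .weyl [2, 1, 2, 3, 2, 1, 2, 1, 0]]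

/-- A node of the reduction. -/
def node48 : Node 4 where
  A := [27, 41, 47, 28]
  psi := []
  chain := []
  refls := []
  strips := []
  moves := [.weyl [0, 1, 2, 3, 1, 0], .conj 4, .conj 12, .conj 37, .conj 6, .conj 19, .conj 42, .weyl [1, 0]]

/-- A node of the reduction. -/
def node49 : Node 4 where
  A := [33]
  psi := [24, 25, 26, 37, 38, 39, 45, 46, 47]
  chain := [[26, 37, 38, 39, 45, 46, 47], [37, 38, 39, 45, 46, 47], [38, 39, 45, 46, 47], [39, 45, 46, 47], [45, 46, 47], [46, 47], [47], []]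
  refls := [⟨26, [3]⟩, ⟨38, [3]⟩, ⟨39, [2]⟩, ⟨45, [1, 2, 1, 0, 1, 2, 1]⟩, ⟨46, [2]⟩, ⟨47, [3]⟩]
  strips := [⟨24, [25, 26, 37, 38, 39, 45, 46, 47], [⟨[(25, 26)], [39, 45, 37, 38, 46, 47]⟩, ⟨[(37, 38)], [39, 45, 46, 47]⟩, ⟨[(46, 47)], [39, 45]⟩], [39, 45]⟩,
    ⟨25, [24, 26, 37, 38, 39, 45, 46, 47], [⟨[(24, 26)], [37, 47, 38, 39, 45, 46]⟩, ⟨[(38, 39)], [37, 47, 45, 46]⟩, ⟨[(45, 46)], [37, 47]⟩], [37, 47]⟩,
    ⟨37, [24, 25, 26, 38, 39, 45, 46, 47], [⟨[(24, 45)], [25, 38, 39, 47, 26, 46]⟩, ⟨[(26, 46)], [25, 38, 39, 47]⟩], [25, 38, 39, 47]⟩]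
  moves := [.weyl [0, 1, 2, 3, 1, 2, 1]]

/-- A node of the reduction. -/
def node50 : Node 4 where
  A := [33, 24]
  psi := [39, 45]
  chain := [[45], []]
  refls := []
  strips := [⟨39, [45], [], [45]⟩,
    ⟨45, [39], [], [39]⟩]
  moves := [.weyl [2, 1, 2, 3, 1, 2, 0, 1, 2, 1]]

/-- A node of the reduction. -/
def node51 : Node 4 where
  A := [33, 24, 39]
  psi := [45]
  chain := [[]]
  refls := []
  strips := [⟨45, [], [], []⟩]
  moves := [.weyl [0, 1], .conj 4, .conj 12, .conj 37, .weyl [1, 2, 0, 1, 2]]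

/-- A node of the reduction. -/
def node52 : Node 4 where
  A := [33, 24, 39, 45]
  psi := []
  chain := []
  refls := []
  strips := []
  moves := [.weyl [0, 1], .conj 4, .conj 12, .conj 37, .conj 6, .conj 19, .conj 42, .weyl [1, 0]]

/-- A node of the reduction. -/
def node53 : Node 4 where
  A := [33, 24, 45]
  psi := [39]
  chain := [[]]
  refls := []
  strips := [⟨39, [], [], []⟩]
  moves := [.weyl [0, 1], .conj 19, .conj 22, .conj 26, .weyl [2, 1, 2, 3, 2, 1, 2, 1, 0]]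

/-- A node of the reduction. -/
def node54 : Node 4 where
  A := [33, 24, 45, 39]
  psi := []
  chain := []
  refls := []
  strips := []
  moves := [.weyl [0, 1], .conj 4, .conj 12, .conj 37, .conj 6, .conj 19, .conj 42, .weyl [1, 0]]

/-- A node of the reduction. -/
def node55 : Node 4 where
  A := [33, 25]
  psi := [37, 47]
  chain := [[47], []]
  refls := []
  strips := [⟨37, [47], [], [47]⟩,
    ⟨47, [37], [], [37]⟩]
  moves := [.weyl [2, 1, 2, 0, 1, 2, 3, 2, 0, 1]]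

/-- A node of the reduction. -/
def node56 : Node 4 where
  A := [33, 25, 37]
  psi := [47]
  chain := [[]]
  refls := []
  strips := [⟨47, [], [], []⟩]
  moves := [.weyl [0, 1, 2, 3], .conj 4, .conj 12, .conj 37, .weyl [1, 2, 0, 1, 2]]

/-- A node of the reduction. -/
def node57 : Node 4 where
  A := [33, 25, 37, 47]
  psi := []
  chain := []
  refls := []
  strips := []
  moves := [.weyl [0, 1, 2, 3], .conj 4, .conj 12, .conj 37, .conj 6, .conj 19, .conj 42, .weyl [1, 0]]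

/-- A node of the reduction. -/
def node58 : Node 4 where
  A := [33, 25, 47]
  psi := [37]
  chain := [[]]
  refls := []
  strips := [⟨37, [], [], []⟩]
  moves := [.weyl [0, 1, 2, 3], .conj 19, .conj 22, .conj 26, .weyl [2, 1, 2, 3, 2, 1, 2, 1, 0]]

/-- A node of the reduction. -/
def node59 : Node 4 where
  A := [33, 25, 47, 37]
  psi := []
  chain := []
  refls := []
  strips := []
  moves := [.weyl [0, 1, 2, 3], .conj 4, .conj 12, .conj 37, .conj 6, .conj 19, .conj 42, .weyl [1, 0]]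

/-- A node of the reduction. -/
def node60 : Node 4 where
  A := [33, 37]
  psi := [25, 38, 39, 47]
  chain := [[38, 39, 47], [39, 47], [47], []]
  refls := [⟨39, [2]⟩, ⟨47, [3, 1, 2, 1, 0, 1, 2, 1, 3]⟩]
  strips := [⟨25, [38, 39, 47], [⟨[(38, 39)], [47]⟩], [47]⟩,
    ⟨38, [25, 39, 47], [⟨[(25, 47)], [39]⟩], [39]⟩]
  moves := [.weyl [0, 1], .conj 22, .weyl [3, 2, 0, 1, 2, 3, 1, 0]]

/-- A node of the reduction. -/
def node61 : Node 4 where
  A := [33, 37, 25]
  psi := [47]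
  chain := [[]]
  refls := []
  strips := [⟨47, [], [], []⟩]
  moves := [.weyl [0, 1, 2, 3], .conj 4, .conj 12, .conj 37, .weyl [1, 2, 0, 1, 2]]

/-- A node of the reduction. -/
def node62 : Node 4 where
  A := [33, 37, 25, 47]
  psi := []
  chain := []
  refls := []
  strips := []
  moves := [.weyl [0, 1, 2, 3], .conj 4, .conj 12, .conj 37, .conj 6, .conj 19, .conj 42, .weyl [1, 0]]

/-- A node of the reduction. -/
def node63 : Node 4 where
  A := [33, 37, 38]
  psi := [39]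
  chain := [[]]
  refls := []
  strips := [⟨39, [], [], []⟩]
  moves := [.weyl [0, 1], .conj 21, .conj 24, .conj 25, .weyl [2, 1, 2, 3, 1, 2, 1, 0]]

/-- A node of the reduction. -/
def node64 : Node 4 where
  A := [33, 37, 38, 39]
  psi := []
  chain := []
  refls := []
  strips := []
  moves := [.weyl [0, 1], .conj 4, .conj 14, .conj 41, .conj 13, .conj 24, .conj 21, .weyl [2, 3, 1, 0]]

/-- All nodes, each before its children. -/
def nodeList : List (Node 4) := [node0, node1, node2, node3, node4, node5, node6, node7, node8, node9, node10, node11, node12, node13, node14, node15, node16, node17, node18, node19, node20, node21, node22, node23, node24, node25, node26, node27, node28, node29, node30, node31, node32, node33, node34, node35, node36, node37, node38, node39, node40, node41, node42, node43, node44, node45, node46, node47, node48, node49, node50, node51, node52, node53, node54, node55, node56, node57, node58, node59,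 node60, node61, node62, node63, node64]

/-- The four representatives. -/
def tgts : List (List ℕ) := [[47], [44], [47, 44], [39, 45]]

end Cfsg.Agent.InvolFour.F4
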